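import Groth.Agent.H06EGA14.JacobsonDim
import Groth.Agent.H06EGA14.StalkSubspace
import Groth.Agent.H8Props.UnivCatenary

/-! Dimension theory of Jacobson schemes with universally catenary local rings and
equidimensional components (EGA IV 10.6). -/

set_option autoImplicit false
set_option backward.isDefEq.respectTransparency false
universe u
open CategoryTheory AlgebraicGeometry TopologicalSpace
open Groth.Agent.H8Props.FieldDim

namespace Groth.Agent.H06EGA10

/-- Jacobson, universally catenary local rings, equidimensional components. -/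
structure IsGood (X : Scheme.{u}) [IsLocallyNoetherian X] [JacobsonSpace X] : Prop where
  ucat : ∀ x : X, CAlg.IsUniversallyCatenary (X.presheaf.stalk x)
  equi : ∀ X' ∈ irreducibleComponents (X : Type u), ∀ x ∈ X', IsClosed ({x} : Set X) →
    topologicalKrullDim (↥X' : Type u) = topologicalKrullDim ↥{t : X | t ∈ X' ∧ t ⤳ x}

/-- The reduced closed subscheme on the closure of a point. -/
theorem exists_reduced_closure {X : Scheme.{u}} (a : X) :
    ∃ (Z : Scheme.{u}) (i : Z ⟶ X) (_ : IsClosedImmersion i) (_ : IrreducibleSpace Z),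
      Set.range i = closure {a} ∧ i (genericPoint Z) = a := by
  let C : Closeds X := ⟨closure {a}, isClosed_closure⟩
  let i := (Scheme.IdealSheafData.vanishingIdeal C).subschemeι
  have hr : Set.range i = closure {a} := by
    rw [Scheme.IdealSheafData.range_subschemeι, Scheme.IdealSheafData.coe_support_vanishingIdeal]; rfl
  have hirr : IsIrreducible (Set.univ : Set (Scheme.IdealSheafData.vanishingIdeal C).subscheme) := by
    obtain ⟨z, hz⟩ : a ∈ Set.range i := hr.symm ▸ subset_closure rfl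
    suffices h : Set.univ = closure {z} by rw [h]; exact isIrreducible_singleton.closure
    refine (Set.eq_univ_of_forall fun w => ?_).symm
    rw [i.isEmbedding.isInducing.closure_eq_preimage_closure_image, Set.image_singleton, hz, ← hr]
    exact Set.mem_range_self w
  haveI : IrreducibleSpace (Scheme.IdealSheafData.vanishingIdeal C).subscheme :=
    (irreducibleSpace_def _).2 hirr
  refine ⟨_, i, inferInstance, inferInstance, hr, ?_⟩
  have hg : IsGenericPoint (i (genericPoint (Scheme.IdealSheafData.vanishingIdeal C).subscheme)) (closure {a}) := by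
    have := (genericPoint_spec (Scheme.IdealSheafData.vanishingIdeal C).subscheme).image i.continuous
    rwa [Set.image_univ, hr, closure_closure] at this
  exact hg.eq isGenericPoint_closure

/-- All closed points of an irreducible scheme locally of finite type have local rings of top dimension. -/
theorem ringKrullDim_stalk_closed {Z S : Scheme.{u}} [IsLocallyNoetherian S] [JacobsonSpace S]
    (h2 : ∀ s : S, CAlg.IsUniversallyCatenary (S.presheaf.stalk s)) (p : Z ⟶ S) [LocallyOfFiniteType p]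
    [IrreducibleSpace Z] (D : ℕ)
    (hD : ∀ s : S, p (genericPoint Z) ⤳ s → IsClosed ({s} : Set S) → ∀ q : PrimeSpectrum (S.presheaf.stalk s),
      S.fromSpecStalk s q = p (genericPoint Z) → ringKrullDim (S.presheaf.stalk s ⧸ q.asIdeal) = D)
    (e : ℕ) (he : cdim (p.asFiber (genericPoint Z)) = (e : WithBot ℕ∞))
    (x : Z) (hx : IsClosed ({x} : Set Z)) : ringKrullDim (Z.presheaf.stalk x) = (D + e : ℕ) := by
  haveI : IsLocallyNoetherian Z := LocallyOfFiniteType.isLocallyNoetherian p
  haveI : JacobsonSpace Z := LocallyOfFiniteType.jacobsonSpace p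
  obtain ⟨P, hP⟩ : genericPoint Z ∈ Set.range (Z.fromSpecStalk x) := by
    rw [Scheme.range_fromSpecStalk]; exact genericPoint_specializes x
  have hnat : S.fromSpecStalk (p x) (PrimeSpectrum.comap (p.stalkMap x).hom P) = p (Z.fromSpecStalk x P) :=
    congrArg (fun φ : Spec (Z.presheaf.stalk x) ⟶ S => φ P) (Scheme.SpecMap_stalkMap_fromSpecStalk p)
  have hd := hD (p x) ((genericPoint_specializes x).map p.continuous)
    (p.closePoints_subset_preimage_closedPoints hx) _ (by rw [hnat, hP])
  have ht : cdim (p.asFiber x) = (0 : ℕ) := by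
    have h1 : IsClosed ({p.asFiber x} : Set (p.fiber (p x))) := by
      have h2' : ({p.asFiber x} : Set (p.fiber (p x))) = p.fiberι (p x) ⁻¹' {x} :=
        Set.ext fun w => ⟨fun h => by rw [Set.mem_singleton_iff.mp h]; exact p.fiberι_asFiber x,
          fun h => (p.fiberι (p x)).isEmbedding.injective (h.trans (p.fiberι_asFiber x).symm)⟩
      exact h2' ▸ hx.preimage (p.fiberι (p x)).continuous
    refine le_antisymm ?_ ((H06Equidim.exists_trdeg_asFiber p x).choose_spec.1 ▸ Nat.cast_nonneg' _)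
    show topologicalKrullDim (closure ({p.asFiber x} : Set (p.fiber (p x)))) ≤ _
    rw [IsClosed.closure_eq h1, Nat.cast_zero]
    haveI : Subsingleton (IrreducibleCloseds ↥({p.asFiber x} : Set (p.fiber (p x)))) :=
      ⟨fun A B => IrreducibleCloseds.ext ((Subsingleton.eq_univ_of_nonempty A.2.nonempty).trans
        (Subsingleton.eq_univ_of_nonempty B.2.nonempty).symm)⟩
    exact Order.krullDim_nonpos_of_subsingleton
  have hdim := H06EGA14.quotient_dim_add_eq_of_catenary p x (h2 _) P D 0 e hd ht (by rw [hP]; exact he)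
  rw [Nat.cast_zero, add_zero] at hdim
  rw [← hdim]
  refine le_antisymm ?_ (ringKrullDim_quotient_le _)
  haveI := P.2
  have hPmin : ∀ Q : Ideal (Z.presheaf.stalk x), Q.IsPrime → P.asIdeal ≤ Q := fun Q hQ =>
    (PrimeSpectrum.le_iff_specializes P ⟨Q, hQ⟩).mpr
      ((Z.fromSpecStalk x).isEmbedding.isInducing.specializes_iff.mp (hP ▸ genericPoint_specializes _))
  have hnil : P.asIdeal ≤ nilradical (Z.presheaf.stalk x) := by
    rw [nilradical_eq_sInf]; exact le_sInf fun Q hQ => hPmin Q hQ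
  rw [← H25SmVar.ringKrullDim_quotient_nilradical (Z.presheaf.stalk x)]
  exact H05EGA4.ringKrullDim_quotient_mono hnil

theorem cdim_asFiber_of_immersion {Z X : Scheme.{u}} (i : Z ⟶ X) [IsImmersion i] (z : Z) :
    cdim (i.asFiber z) = ((0 : ℕ) : WithBot ℕ∞) := by
  haveI : Subsingleton (i.fiber (i z)) := ⟨fun a b => by
    apply (i.fiberι (i z)).isEmbedding.injective
    apply i.isEmbedding.injective
    have ha : i (i.fiberι (i z) a) = i z := (i.range_fiberι _).subset (Set.mem_range_self a)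
    have hb : i (i.fiberι (i z) b) = i z := (i.range_fiberι _).subset (Set.mem_range_self b)
    exact ha.trans hb.symm⟩
  haveI : Subsingleton ↥(closure ({i.asFiber z} : Set (i.fiber (i z)))) := inferInstance
  haveI : Subsingleton (IrreducibleCloseds ↥(closure ({i.asFiber z} : Set (i.fiber (i z))))) :=
    ⟨fun A B => IrreducibleCloseds.ext ((Subsingleton.eq_univ_of_nonempty A.2.nonempty).trans
      (Subsingleton.eq_univ_of_nonempty B.2.nonempty).symm)⟩
  haveI : Nonempty (IrreducibleCloseds ↥(closure ({i.asFiber z} : Set (i.fiber (i z))))) :=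
    ⟨⟨closure {⟨i.asFiber z, subset_closure rfl⟩}, isIrreducible_singleton.closure, isClosed_closure⟩⟩
  rw [Nat.cast_zero]
  exact le_antisymm Order.krullDim_nonpos_of_subsingleton Order.krullDim_nonneg

variable {X : Scheme.{u}} [IsLocallyNoetherian X] [JacobsonSpace X]

theorem IsGood.exists_D (h : IsGood X) (σ : X) :
    ∃ D : ℕ, (∀ (Z : Scheme.{u}) (i : Z ⟶ X) [IsImmersion i] [IrreducibleSpace Z],
      i (genericPoint Z) = σ → topologicalKrullDim Z = (D : WithBot ℕ∞)) ∧
    ∀ c : X, σ ⤳ c → IsClosed ({c} : Set X) → topologicalKrullDim ↥{t : X | σ ⤳ t ∧ t ⤳ c} = (D : WithBot ℕ∞) := by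
  obtain ⟨D, hD⟩ := H06EGA14.exists_dim_quotient_const h.ucat h.equi σ
  refine ⟨D, fun Z i _ _ hi => ?_, fun c hc hcc => ?_⟩
  · have := H06EGA14.topologicalKrullDim_eq_add h.ucat i D (hi ▸ hD) 0 (cdim_asFiber_of_immersion i _)
    simpa using this
  · obtain ⟨q, hq⟩ : σ ∈ Set.range (X.fromSpecStalk c) := by rw [Scheme.range_fromSpecStalk]; exact hc
    rw [← H06EGA14.ringKrullDim_quotient_eq_between σ c q hq]
    exact hD c hc hcc q hq

theorem IsGood.dim_inter_open (h : IsGood X) (σ : X) (U : X.Opens) (hU : σ ∈ U) :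
    topologicalKrullDim ↥((U : Set X) ∩ closure {σ}) = topologicalKrullDim ↥(closure ({σ} : Set X)) := by
  obtain ⟨D, hD, -⟩ := h.exists_D σ
  obtain ⟨Z, i, hi, hZ, hr, hgp⟩ := exists_reduced_closure σ
  have h1 := hD Z i hgp
  have hm : genericPoint Z ∈ i ⁻¹ᵁ U := by show i (genericPoint Z) ∈ U; rw [hgp]; exact hU
  haveI : Nonempty ↥(i ⁻¹ᵁ U : Scheme.{u}) := ⟨⟨_, hm⟩⟩
  haveI : IrreducibleSpace ↥(i ⁻¹ᵁ U : Scheme.{u}) := by
    rw [irreducibleSpace_def, Set.top_eq_univ]
    refine ⟨Set.univ_nonempty, ?_⟩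
    rw [← Set.preimage_univ (f := (i ⁻¹ᵁ U).ι)]
    exact ((irreducibleSpace_def _).1 hZ).2.preimage (i ⁻¹ᵁ U).ι.isOpenEmbedding
  have h2 := hD _ ((i ⁻¹ᵁ U).ι ≫ i) (by
    show i ((i ⁻¹ᵁ U).ι (genericPoint ↥(i ⁻¹ᵁ U : Scheme.{u}))) = σ
    rw [genericPoint_eq_of_isOpenImmersion, hgp])
  have e1 : topologicalKrullDim ↥(closure ({σ} : Set X)) = topologicalKrullDim Z := by
    rw [← hr]; exact dim_range i.isEmbedding
  have e2 : topologicalKrullDim ↥((U : Set X) ∩ closure {σ}) = topologicalKrullDim ↥(i ⁻¹ᵁ U : Scheme.{u}) := by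
    rw [← hr, ← dim_preimage i.isEmbedding, ← dim_range (i ⁻¹ᵁ U).ι.isEmbedding, Scheme.Opens.range_ι]
    rfl
  rw [e1, e2, h1, h2]

theorem IsGood.dim_closure_eq_between (h : IsGood X) (σ c : X) (hc : σ ⤳ c) (hcc : IsClosed ({c} : Set X)) :
    topologicalKrullDim ↥(closure ({σ} : Set X)) = topologicalKrullDim ↥{t : X | σ ⤳ t ∧ t ⤳ c} := by
  obtain ⟨D, hD, hD'⟩ := h.exists_D σ
  obtain ⟨Z, i, hi, hZ, hr, hgp⟩ := exists_reduced_closure σ
  rw [hD' c hc hcc, ← hD Z i hgp, ← hr]
  exact dim_range i.isEmbedding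

theorem IsGood.dim_closure_eq_add (h : IsGood X) (σ x : X) (hx : σ ⤳ x) :
    topologicalKrullDim ↥(closure ({σ} : Set X)) =
      topologicalKrullDim ↥(closure ({x} : Set X)) + topologicalKrullDim ↥{t : X | σ ⤳ t ∧ t ⤳ x} := by
  obtain ⟨c, hxc, hc⟩ := nonempty_inter_closedPoints (Z := closure ({x} : Set X)) ⟨x, subset_closure rfl⟩
    isClosed_closure.isLocallyClosed
  have hxc' : x ⤳ c := specializes_iff_mem_closure.mpr hxc
  have hσc := hx.trans hxc'
  rw [h.dim_closure_eq_between σ c hσc hc, h.dim_closure_eq_between x c hxc' hc]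
  obtain ⟨p, hp⟩ : σ ∈ Set.range (X.fromSpecStalk c) := by rw [Scheme.range_fromSpecStalk]; exact hσc
  obtain ⟨q, hq⟩ : x ∈ Set.range (X.fromSpecStalk c) := by rw [Scheme.range_fromSpecStalk]; exact hxc'
  obtain ⟨u, hu⟩ := (H06EGA14.range_quotientStalkMap σ c p hp).superset (⟨hx, hxc'⟩ : σ ⤳ x ∧ x ⤳ c)
  haveI := u.2; haveI := p.2; haveI := q.2
  haveI : IsLocalRing (X.presheaf.stalk c ⧸ p.asIdeal) := .of_surjective' _ Ideal.Quotient.mk_surjective
  have hcat : CAlg.IsCatenary (X.presheaf.stalk c ⧸ p.asIdeal) :=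
    (h.ucat c).2 _ (Algebra.FiniteType.of_surjective (Ideal.Quotient.mkₐ (X.presheaf.stalk c) p.asIdeal)
      Ideal.Quotient.mk_surjective)
  have heq : EGA4.IsEquidim (X.presheaf.stalk c ⧸ p.asIdeal) := fun P hP => by
    rw [IsDomain.minimalPrimes_eq_singleton_bot, Set.mem_singleton_iff] at hP
    rw [hP, ringKrullDim_eq_of_ringEquiv (RingEquiv.quotientBot _)]
  have h1 := H05EGA4.height_add_dim_eq_of_isEquidim hcat heq u.asIdeal
  rw [H06EGA14.height_eq_between σ c x p hp u hu,
    H06EGA14.ringKrullDim_quotient_eq_between σ c p hp] at h1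
  rw [← h1, add_comm, ← H06EGA14.ringKrullDim_quotient_eq_between x c q hq]
  congr 1
  have hqu : q.asIdeal = u.asIdeal.comap (Ideal.Quotient.mk p.asIdeal) :=
    congrArg PrimeSpectrum.asIdeal ((X.fromSpecStalk c).isEmbedding.injective (hq.trans hu.symm))
  exact ringKrullDim_eq_of_ringEquiv ((Ideal.quotEquivOfEq (by
      rw [hqu, ← RingHom.comap_ker, Ideal.mk_ker])).trans
    (RingHom.quotientKerEquivOfSurjective (f := (Ideal.Quotient.mk u.asIdeal).comp (Ideal.Quotient.mk p.asIdeal))
      (Ideal.Quotient.mk_surjective.comp Ideal.Quotient.mk_surjective))).symm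

theorem isGood_of_lft {S : Scheme.{u}} [IsLocallyNoetherian S] [JacobsonSpace S] (h : IsGood S)
    (g : X ⟶ S) [LocallyOfFiniteType g] : IsGood X := by
  refine ⟨H8Props.UnivCatenary.isUniversallyCatenary_stalk fun Y f hf =>
    H8Props.UnivCatenary.isCatenarySpace_of_stalks h.ucat Y (f ≫ g) (haveI := hf; inferInstance), ?_⟩
  intro X' hX' x hx hxc
  obtain ⟨a, ha⟩ : ∃ a : X, X' = closure {a} := (H06EGA14.exists_eq_closure_singleton hX').imp fun _ h => h.1
  subst ha
  obtain ⟨Z, i, hi, hZ, hr, hgp⟩ := exists_reduced_closure a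
  obtain ⟨D, hD⟩ := H06EGA14.exists_dim_quotient_const h.ucat h.equi ((i ≫ g) (genericPoint Z))
  obtain ⟨e, he, -⟩ := H06Equidim.exists_trdeg_asFiber (i ≫ g) (genericPoint Z)
  obtain ⟨w, rfl⟩ : x ∈ Set.range i := hr.symm ▸ hx
  have hwc : IsClosed ({w} : Set Z) := by
    have : ({w} : Set Z) = i ⁻¹' {i w} :=
      (Set.ext fun z => ⟨fun h => congrArg i h, fun h => i.isEmbedding.injective h⟩)
    rw [this]; exact hxc.preimage i.continuous
  rw [show {t : X | t ∈ closure {a} ∧ t ⤳ i w} = {t : X | a ⤳ t ∧ t ⤳ i w} from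
      Set.ext fun t => and_congr_left' specializes_iff_mem_closure.symm,
    ← H06EGA14.ringKrullDim_stalk_eq_between i hr w rfl,
    ringKrullDim_stalk_closed h.ucat (i ≫ g) D hD e he w hwc, ← hr, dim_range i.isEmbedding,
    H06EGA14.topologicalKrullDim_eq_add h.ucat (i ≫ g) D hD e he]

end Groth.Agent.H06EGA10
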