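import Groth.Agent.H06EGA10.RectDepth
import Groth.Agent.H05EGA4.PdBaseChange
import Groth.Agent.H05EGA4.NormalFlat
import Groth.Agent.H22Alg.CohSupport
import Groth.Agent.H10Coh.Support

/-! Openness of the loci of bounded projective dimension; semicontinuity of the rectified depth. -/

set_option autoImplicit false
set_option backward.isDefEq.respectTransparency false
universe u
open CategoryTheory AlgebraicGeometry TensorProduct

namespace Groth.Agent.H06EGA10

theorem pd_le_iff_of_isLocalization {A : Type u} [CommRing A] [IsNoetherianRing A] (p : Ideal A) [p.IsPrime]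
    (M : Type u) [AddCommGroup M] [Module A M] [Module.Finite A M]
    (S : Type u) [CommRing S] [Algebra A S] [IsLocalization.AtPrime S p]
    (N : Type u) [AddCommGroup N] [Module A N] [Module S N] [IsScalarTower A S N]
    (φ : M →ₗ[A] N) [IsLocalizedModule p.primeCompl φ] (n : ℕ) :
    HasProjectiveDimensionLE (ModuleCat.of (Localization.AtPrime p) (Localization.AtPrime p ⊗[A] M)) n ↔
      HasProjectiveDimensionLE (ModuleCat.of S N) n := by
  let e := IsLocalization.algEquiv p.primeCompl (Localization.AtPrime p) S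
  letI : Algebra (Localization.AtPrime p) S := e.toAlgHom.toRingHom.toAlgebra
  haveI : IsScalarTower A (Localization.AtPrime p) S := .of_algebraMap_eq fun a => (e.commutes a).symm
  let e' : Localization.AtPrime p ≃ₗ[Localization.AtPrime p] S :=
    LinearEquiv.ofBijective (Algebra.linearMap (Localization.AtPrime p) S) e.bijective
  haveI : Module.FaithfullyFlat (Localization.AtPrime p) S := Module.FaithfullyFlat.of_linearEquiv _ _ e'.symm
  rw [H05EGA4.PdBaseChange.pd_baseChange_iff (B := S) n (Localization.AtPrime p ⊗[A] M)]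
  let σ : S ⊗[Localization.AtPrime p] (Localization.AtPrime p ⊗[A] M) ≃ₗ[S] N :=
    (TensorProduct.AlgebraTensorModule.cancelBaseChange A (Localization.AtPrime p) S S M).trans
      (IsLocalizedModule.isBaseChange p.primeCompl S φ).equiv
  exact ⟨fun h => hasProjectiveDimensionLT_of_iso σ.toModuleIso _,
    fun h => hasProjectiveDimensionLT_of_iso σ.symm.toModuleIso _⟩

theorem isOpen_pd_stalk_le {X : Scheme.{u}} [IsLocallyNoetherian X] (F : X.Modules) (hF : Coh.IsCoh F) (n : ℕ) :
    IsOpen {x : X | HasProjectiveDimensionLE (ModuleCat.of (X.presheaf.stalk x) (F.presheaf.stalk x)) n} := by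
  rw [isOpen_iff_forall_mem_open]
  intro x hx
  obtain ⟨U, hU, hxU, -⟩ := exists_isAffineOpen_mem_and_subset (X := X) (x := x) (U := ⊤) trivial
  haveI : IsNoetherianRing Γ(X, U) := IsLocallyNoetherian.component_noetherian ⟨U, hU⟩
  haveI : F.IsQuasicoherent := hF.1
  haveI : Module.Finite Γ(X, U) Γ(F, U) := H10Coh.finite_sections F hF.2 hU
  have key : ∀ y : U,
      HasProjectiveDimensionLE (ModuleCat.of (Localization.AtPrime (hU.primeIdealOf y).asIdeal)
        (Localization.AtPrime (hU.primeIdealOf y).asIdeal ⊗[Γ(X, U)] Γ(F, U))) n ↔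
      HasProjectiveDimensionLE (ModuleCat.of (X.presheaf.stalk y.1) (F.presheaf.stalk y.1)) n := by
    intro y
    letI := TopCat.Presheaf.algebra_section_stalk X.presheaf y
    letI := Module.compHom (F.presheaf.stalk y.1) (algebraMap Γ(X, U) (X.presheaf.stalk y.1))
    haveI : IsScalarTower Γ(X, U) (X.presheaf.stalk y.1) (F.presheaf.stalk y.1) :=
      .of_algebraMap_smul fun _ _ => rfl
    haveI : IsLocalization (hU.primeIdealOf y).asIdeal.primeCompl (X.presheaf.stalk y.1) :=
      hU.isLocalization_stalk y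
    haveI : IsLocalizedModule (hU.primeIdealOf y).asIdeal.primeCompl (H29Fitt.germLin F y) :=
      H29Fitt.isLocalizedModule_germLin F hF.1 hU y
    exact pd_le_iff_of_isLocalization (hU.primeIdealOf y).asIdeal Γ(F, U) (X.presheaf.stalk y.1)
      (F.presheaf.stalk y.1) (H29Fitt.germLin F y) n
  have hcont : Continuous hU.primeIdealOf := hU.isoSpec.hom.continuous
  refine ⟨Subtype.val '' (hU.primeIdealOf ⁻¹' {p | HasProjectiveDimensionLE
      (ModuleCat.of (Localization.AtPrime p.asIdeal) (Localization.AtPrime p.asIdeal ⊗[Γ(X, U)] Γ(F, U))) n}),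
    ?_, U.2.isOpenMap_subtype_val _ ((H05EGA4.PdBaseChange.isOpen_pd_le n Γ(F, U)).preimage hcont), ?_⟩
  · rintro _ ⟨y, hy, rfl⟩
    exact (key y).1 hy
  · exact ⟨⟨x, hxU⟩, (key ⟨x, hxU⟩).2 hx, rfl⟩

theorem isOpen_rectifiedDepth (X : Scheme.{u}) [IsNoetherian X]
    (hreg : ∀ x : X, IsRegularLocalRing ↑(X.presheaf.stalk x))
    (hfin : topologicalKrullDim X < ⊤)
    (hcomp : ∀ C ∈ irreducibleComponents (X : Type u), topologicalKrullDim ↥C = topologicalKrullDim X)
    (hchain : ∀ (y : X) (T : Set X), IsClosed T → IsIrreducible T → y ∈ T →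
      topologicalKrullDim ↥T = topologicalKrullDim ↥(closure ({y} : Set X)) + topologicalKrullDim ↥{t : X | t ∈ T ∧ t ⤳ y})
    (F : X.Modules) (hF : Coh.IsCoh F) (n : ℕ) :
    IsOpen {x : X | (n : WithBot ℕ∞) ≤
      ((LocCoh.depth ↑(X.presheaf.stalk x) ↑(F.presheaf.stalk x) : ℕ∞) : WithBot ℕ∞) +
        topologicalKrullDim ↥(closure ({x} : Set X))} := by
  have hsupp : IsClosed (CohB1.support F) := H10Coh.isClosed_support F hF.2
  have hout : ∀ x ∉ CohB1.support F, (n : WithBot ℕ∞) ≤
      ((LocCoh.depth ↑(X.presheaf.stalk x) ↑(F.presheaf.stalk x) : ℕ∞) : WithBot ℕ∞) +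
        topologicalKrullDim ↥(closure ({x} : Set X)) := by
    intro x hx
    haveI : Subsingleton ↑(F.presheaf.stalk x) := not_not.1 hx
    rw [H05EGA4.NormalFlat.depth_eq_top_of_subsingleton]
    haveI : Nonempty (TopologicalSpace.IrreducibleCloseds ↥(closure ({x} : Set X))) :=
      ⟨⟨closure {⟨x, subset_closure rfl⟩}, isIrreducible_singleton.closure, isClosed_closure⟩⟩
    obtain ⟨b, hb⟩ : ∃ b : ℕ∞, topologicalKrullDim ↥(closure ({x} : Set X)) = b :=
      WithBot.ne_bot_iff_exists.1 (bot_lt_iff_ne_bot.1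
        (lt_of_lt_of_le (WithBot.bot_lt_coe 0) (Order.krullDim_nonneg))) |>.imp fun _ h => h.symm
    rw [hb, ← WithBot.coe_add, top_add]
    exact WithBot.coe_le_coe.2 le_top
  obtain hX | hX := isEmpty_or_nonempty X
  · exact isOpen_discrete _
  haveI : Nonempty (TopologicalSpace.IrreducibleCloseds X) :=
    ⟨⟨closure {Classical.arbitrary X}, isIrreducible_singleton.closure, isClosed_closure⟩⟩
  obtain ⟨D, hD⟩ : ∃ D : ℕ, topologicalKrullDim X = (D : WithBot ℕ∞) := by
    obtain ⟨b, hb⟩ := WithBot.ne_bot_iff_exists.1 (bot_lt_iff_ne_bot.1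
      (lt_of_lt_of_le (WithBot.bot_lt_coe 0) (Order.krullDim_nonneg (α := TopologicalSpace.IrreducibleCloseds X))))
    have : b ≠ ⊤ := fun h => by
      rw [h] at hb
      exact hfin.ne hb.symm
    obtain ⟨D, rfl⟩ := ENat.ne_top_iff_exists.1 this
    exact ⟨D, hb.symm⟩
  have hin : ∀ x ∈ CohB1.support F, ((n : WithBot ℕ∞) ≤
      ((LocCoh.depth ↑(X.presheaf.stalk x) ↑(F.presheaf.stalk x) : ℕ∞) : WithBot ℕ∞) +
        topologicalKrullDim ↥(closure ({x} : Set X))) ↔
      n ≤ D ∧ HasProjectiveDimensionLE (ModuleCat.of (X.presheaf.stalk x) (F.presheaf.stalk x)) (D - n) := by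
    intro x hx
    have h := rectifiedDepth_add_pd X hreg hcomp hchain F hF x hx
    rw [hD] at h
    rw [← projectiveDimension_le_iff]
    generalize (((LocCoh.depth ↑(X.presheaf.stalk x) ↑(F.presheaf.stalk x) : ℕ∞) : WithBot ℕ∞) +
        topologicalKrullDim ↥(closure ({x} : Set X))) = a at h ⊢
    generalize projectiveDimension (ModuleCat.of (X.presheaf.stalk x) (F.presheaf.stalk x)) = p at h ⊢
    induction a with
    | bot => simp at h
    | coe a =>
      induction p with
      | bot => simp at h
      | coe p =>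
        rw [← WithBot.coe_add] at h
        have h' : a + p = (D : ℕ∞) := WithBot.coe_inj.1 h
        induction a with
        | top => simp at h'
        | coe a =>
          induction p with
          | top => simp at h'
          | coe p =>
            have h'' : a + p = D := by exact_mod_cast h'
            have e1 : ((p : ℕ∞) : WithBot ℕ∞) ≤ ((D - n : ℕ) : WithBot ℕ∞) ↔ p ≤ D - n := by
              exact WithBot.coe_le_coe.trans ENat.coe_le_coe
            have e2 : (n : WithBot ℕ∞) ≤ ((a : ℕ∞) : WithBot ℕ∞) ↔ n ≤ a :=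
              WithBot.coe_le_coe.trans ENat.coe_le_coe
            rw [e2, e1]
            omega
  have hset : {x : X | (n : WithBot ℕ∞) ≤
      ((LocCoh.depth ↑(X.presheaf.stalk x) ↑(F.presheaf.stalk x) : ℕ∞) : WithBot ℕ∞) +
        topologicalKrullDim ↥(closure ({x} : Set X))} = (CohB1.support F)ᶜ ∪
      {x : X | n ≤ D ∧ HasProjectiveDimensionLE (ModuleCat.of (X.presheaf.stalk x) (F.presheaf.stalk x)) (D - n)} := by
    ext x
    by_cases hx : x ∈ CohB1.support F
    · simp only [Set.mem_ofPred_eq, Set.mem_union, Set.mem_compl_iff, hx, not_true, false_or]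
      exact hin x hx
    · simp only [Set.mem_ofPred_eq, Set.mem_union, Set.mem_compl_iff, hx, not_false_iff, true_or, iff_true]
      exact hout x hx
  rw [hset]
  refine hsupp.isOpen_compl.union ?_
  by_cases hn : n ≤ D
  · simpa [hn] using isOpen_pd_stalk_le F hF (D - n)
  · simp [hn]

end Groth.Agent.H06EGA10
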