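import Groth.Agent.H06EGA10.Jacobson
import Groth.Agent.H06EGA10.RectDepthOpen
import Groth.Agent.H8Props.FlatDepth
import Groth.Agent.H8Props.KoszImm.Regular
import Groth.Agent.H7Flat.FlatSpreadFT
import Groth.Agent.H10Coh.Support

/-! Semicontinuity of the rectified depth over a regular Jacobson base (EGA IV 10.8). -/

set_option autoImplicit false
set_option backward.isDefEq.respectTransparency false
universe u
open CategoryTheory AlgebraicGeometry TopologicalSpace TensorProduct

namespace Groth.Agent.H06EGA10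

/-- The rectified depth. -/
noncomputable def rd {X : Scheme.{u}} (F : X.Modules) (x : X) : WithBot ℕ∞ :=
  ((LocCoh.depth ↑(X.presheaf.stalk x) ↑(F.presheaf.stalk x) : ℕ∞) : WithBot ℕ∞) +
    topologicalKrullDim ↥(closure ({x} : Set X))

theorem IsGood.exists_dim_closure {X : Scheme.{u}} [IsLocallyNoetherian X] [JacobsonSpace X] (h : IsGood X)
    (σ : X) : ∃ d : ℕ, topologicalKrullDim ↥(closure ({σ} : Set X)) = (d : WithBot ℕ∞) := by
  obtain ⟨D, hD, -⟩ := h.exists_D σ
  obtain ⟨Z, i, hi, hZ, hr, hgp⟩ := exists_reduced_closure σ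
  exact ⟨D, by rw [← hr, H8Props.FieldDim.dim_range i.isEmbedding]; exact hD Z i hgp⟩

theorem rd_eq_top {X : Scheme.{u}} [IsLocallyNoetherian X] (F : X.Modules) (x : X) (hx : x ∉ CohB1.support F) (d : ℕ)
    (hd : topologicalKrullDim ↥(closure ({x} : Set X)) = (d : WithBot ℕ∞)) :
    rd F x = ((⊤ : ℕ∞) : WithBot ℕ∞) := by
  haveI : Subsingleton ↑(F.presheaf.stalk x) := not_not.1 hx
  rw [rd, H05EGA4.NormalFlat.depth_eq_top_of_subsingleton, hd,
    show ((d : ℕ) : WithBot ℕ∞) = ((d : ℕ∞) : WithBot ℕ∞) from rfl, ← WithBot.coe_add, top_add]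

/-- The rectified depth at a point of a closed subscheme of a regular good affine scheme. -/
theorem rd_add_pd {X : Scheme.{u}} [IsLocallyNoetherian X] [JacobsonSpace X] (hX : IsGood X)
    {U : X.Opens} (hU : IsAffineOpen U) {P : Type u} [CommRing P] [IsRegularRing P]
    [JacobsonSpace ↥(Spec (CommRingCat.of P))] (hP : IsGood (Spec (CommRingCat.of P)))
    [Algebra P Γ(X, U)] (hsurj : Function.Surjective (algebraMap P Γ(X, U)))
    (F : X.Modules) (hF : Coh.IsCoh F) (x : U) (hx : (x : X) ∈ CohB1.support F)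
    [Module P Γ(F, U)] [IsScalarTower P Γ(X, U) Γ(F, U)]
    (γ : Spec (CommRingCat.of P)) (hγ : closure ({γ} : Set (Spec (CommRingCat.of P))) ∈ irreducibleComponents (Spec (CommRingCat.of P) : Type u))
    (hγx : γ ⤳ PrimeSpectrum.comap (algebraMap P Γ(X, U)) (hU.primeIdealOf x)) :
    ∃ D p : ℕ, topologicalKrullDim ↥(closure ({γ} : Set (Spec (CommRingCat.of P)))) = (D : WithBot ℕ∞) ∧
      rd F x.1 + (p : WithBot ℕ∞) = (D : WithBot ℕ∞) ∧ ∀ k : ℕ, (p ≤ k ↔
        HasProjectiveDimensionLE (ModuleCat.of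
          (Localization.AtPrime (PrimeSpectrum.comap (algebraMap P Γ(X, U)) (hU.primeIdealOf x)).asIdeal)
          (Localization.AtPrime (PrimeSpectrum.comap (algebraMap P Γ(X, U)) (hU.primeIdealOf x)).asIdeal ⊗[P] Γ(F, U))) k) := by
  haveI : F.IsQuasicoherent := hF.1
  haveI : IsNoetherianRing P := ‹IsRegularRing P›.1
  haveI : Module.Finite Γ(X, U) Γ(F, U) := H10Coh.finite_sections F hF.2 hU
  haveI : Module.Finite P Γ(X, U) := Module.Finite.of_surjective (Algebra.linearMap P Γ(X, U)) hsurj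
  haveI : Module.Finite P Γ(F, U) := Module.Finite.trans Γ(X, U) Γ(F, U)
  set b := hU.primeIdealOf x
  set q := PrimeSpectrum.comap (algebraMap P Γ(X, U)) b with hq
  letI := TopCat.Presheaf.algebra_section_stalk X.presheaf x
  letI := Module.compHom (F.presheaf.stalk x.1) (algebraMap Γ(X, U) (X.presheaf.stalk x.1))
  haveI : IsScalarTower Γ(X, U) (X.presheaf.stalk x.1) (F.presheaf.stalk x.1) :=
    .of_algebraMap_smul fun _ _ => rfl
  haveI : IsLocalization b.asIdeal.primeCompl (X.presheaf.stalk x.1) := hU.isLocalization_stalk x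
  haveI : IsLocalizedModule b.asIdeal.primeCompl (H29Fitt.germLin F x) :=
    H29Fitt.isLocalizedModule_germLin F hF.1 hU x
  letI : Algebra P (X.presheaf.stalk x.1) :=
    ((algebraMap Γ(X, U) (X.presheaf.stalk x.1)).comp (algebraMap P Γ(X, U))).toAlgebra
  haveI : IsScalarTower P Γ(X, U) (X.presheaf.stalk x.1) := .of_algebraMap_eq fun _ => rfl
  letI : Module P (F.presheaf.stalk x.1) := Module.compHom (F.presheaf.stalk x.1) (algebraMap P (X.presheaf.stalk x.1))
  haveI : IsScalarTower P (X.presheaf.stalk x.1) (F.presheaf.stalk x.1) := .of_algebraMap_smul fun _ _ => rfl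
  haveI : IsScalarTower P Γ(X, U) (F.presheaf.stalk x.1) := .of_algebraMap_smul fun _ _ => rfl
  have hcompl : q.asIdeal.primeCompl.map (algebraMap P Γ(X, U)) = b.asIdeal.primeCompl :=
    H7Flat.FlatSpreadFT.primeCompl_map hsurj b.asIdeal
  haveI : IsLocalizedModule q.asIdeal.primeCompl ((H29Fitt.germLin F x).restrictScalars P) :=
    H7Flat.FlatSpreadFT.isLocalizedModule_of_surjective q.asIdeal.primeCompl b.asIdeal.primeCompl hcompl _
  let ψ : Localization.AtPrime q.asIdeal →+* X.presheaf.stalk x.1 :=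
    IsLocalization.lift (M := q.asIdeal.primeCompl) (g := algebraMap P (X.presheaf.stalk x.1)) fun t =>
      IsLocalization.map_units (M := b.asIdeal.primeCompl) (X.presheaf.stalk x.1)
        ⟨algebraMap P Γ(X, U) t, hcompl ▸ Submonoid.mem_map_of_mem _ t.2⟩
  letI : Algebra (Localization.AtPrime q.asIdeal) (X.presheaf.stalk x.1) := ψ.toAlgebra
  have hψ : ∀ a, ψ (algebraMap P _ a) = algebraMap P (X.presheaf.stalk x.1) a := fun a => IsLocalization.lift_eq _ a
  have hψs : Function.Surjective (algebraMap (Localization.AtPrime q.asIdeal) (X.presheaf.stalk x.1)) := by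
    intro y
    obtain ⟨a, ⟨s, hs⟩, rfl⟩ := IsLocalization.exists_mk'_eq b.asIdeal.primeCompl y
    obtain ⟨a, rfl⟩ := hsurj a
    obtain ⟨s, hs', rfl⟩ := hcompl.ge hs
    refine ⟨IsLocalization.mk' _ a (⟨s, hs'⟩ : q.asIdeal.primeCompl), ?_⟩
    rw [eq_comm, IsLocalization.mk'_eq_iff_eq_mul]
    show _ = ψ _ * algebraMap Γ(X, U) _ (algebraMap P Γ(X, U) s)
    simp only [← IsScalarTower.algebraMap_apply]
    rw [← hψ s, ← map_mul, IsLocalization.mk'_spec, hψ]
  letI : Module (Localization.AtPrime q.asIdeal) (F.presheaf.stalk x.1) :=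
    Module.compHom (F.presheaf.stalk x.1) ψ
  haveI : IsScalarTower (Localization.AtPrime q.asIdeal) (X.presheaf.stalk x.1) (F.presheaf.stalk x.1) :=
    .of_algebraMap_smul fun _ _ => rfl
  haveI : IsScalarTower P (Localization.AtPrime q.asIdeal) (F.presheaf.stalk x.1) :=
    .of_algebraMap_smul fun a m => by
      show ψ (algebraMap P _ a) • m = algebraMap P (X.presheaf.stalk x.1) a • m
      rw [hψ]
  haveI : Module.Finite (Localization.AtPrime q.asIdeal) (F.presheaf.stalk x.1) :=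
    Module.Finite.of_isLocalizedModule q.asIdeal.primeCompl ((H29Fitt.germLin F x).restrictScalars P)
  haveI : Nontrivial ↑(F.presheaf.stalk x.1) := not_subsingleton_iff_nontrivial.1 hx
  have hdepth : LocCoh.depth (X.presheaf.stalk x.1) (F.presheaf.stalk x.1) =
      LocCoh.depth (Localization.AtPrime q.asIdeal) (F.presheaf.stalk x.1) :=
    H8Props.FlatDepth.depth_eq_of_surjective hψs
  have hAB := depth_add_projectiveDimension (Localization.AtPrime q.asIdeal) (F.presheaf.stalk x.1)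
  -- the local ring of `Spec P` at `q`
  let zq : Spec (CommRingCat.of P) := q
  let σ := (Spec.stalkIso (CommRingCat.of P) zq).commRingCatIsoToRingEquiv
  haveI : IsDomain ((Spec (CommRingCat.of P)).presheaf.stalk zq) :=
    haveI := H4Depth.isDomain_of_isRegularLocalRing (Localization.AtPrime q.asIdeal)
    σ.toMulEquiv.isDomain (Localization.AtPrime q.asIdeal)
  have hbet : {t : Spec (CommRingCat.of P) | γ ⤳ t ∧ t ⤳ zq} = {t | t ⤳ zq} := by
    ext t
    refine ⟨fun h => h.2, fun h => ⟨specializes_iff_mem_closure.2 ?_, h⟩⟩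
    exact mem_component_of_specializes zq hγ hγx.mem_closure h
  have hdim := hP.dim_closure_eq_add γ zq hγx
  rw [hbet, ← dim_stalk_eq, ringKrullDim_eq_of_ringEquiv σ] at hdim
  -- closures
  let j : (U : Scheme.{u}) ⟶ Spec (CommRingCat.of P) :=
    hU.isoSpec.hom ≫ Spec.map (CommRingCat.ofHom (algebraMap P Γ(X, U)))
  haveI : IsClosedImmersion (Spec.map (CommRingCat.ofHom (algebraMap P Γ(X, U)))) :=
    IsClosedImmersion.spec_of_surjective _ hsurj
  have hjx : j x = zq := rfl
  have hcl : topologicalKrullDim ↥(closure ({x.1} : Set X)) = topologicalKrullDim ↥(closure ({zq} : Set (Spec (CommRingCat.of P)))) := by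
    rw [← hX.dim_inter_open x.1 U x.2]
    have e1 : topologicalKrullDim ↥((U : Set X) ∩ closure {x.1}) =
        topologicalKrullDim ↥(closure ({x} : Set ↥(U : Scheme.{u}))) := by
      have h : closure ({x} : Set ↥(U : Scheme.{u})) = U.ι ⁻¹' closure {x.1} := by
        rw [U.ι.isOpenEmbedding.isInducing.closure_eq_preimage_closure_image, Set.image_singleton]
        rfl
      rw [h, H8Props.FieldDim.dim_preimage U.ι.isEmbedding, Scheme.Opens.range_ι, Set.inter_comm]
    rw [e1, show closure ({x} : Set ↥(U : Scheme.{u})) = j ⁻¹' closure {zq} by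
      rw [j.isClosedEmbedding.isInducing.closure_eq_preimage_closure_image, Set.image_singleton, hjx],
      H8Props.FieldDim.dim_preimage j.isClosedEmbedding.isEmbedding]
    have h2 : closure {zq} ⊆ Set.range j :=
      closure_minimal (Set.singleton_subset_iff.2 ⟨x, hjx⟩) j.isClosedEmbedding.isClosed_range
    rw [Set.inter_eq_left.2 h2]
  obtain ⟨D, hD⟩ := hP.exists_dim_closure γ
  obtain ⟨d, hd⟩ := hP.exists_dim_closure zq
  rw [hD, hd, ← hAB, ← hdepth] at hdim
  rw [rd, hcl, hd]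
  generalize hp : projectiveDimension (ModuleCat.of (Localization.AtPrime q.asIdeal) (F.presheaf.stalk x.1)) = e at hdim
  generalize ((LocCoh.depth (X.presheaf.stalk x.1) (F.presheaf.stalk x.1) : ℕ∞)) = a at hdim ⊢
  cases e with
  | bot => simp at hdim
  | coe e =>
    cases a with
    | top =>
      rw [show ((D : ℕ) : WithBot ℕ∞) = ((D : ℕ∞) : WithBot ℕ∞) from rfl,
        show ((d : ℕ) : WithBot ℕ∞) = ((d : ℕ∞) : WithBot ℕ∞) from rfl] at hdim
      rw [← WithBot.coe_add, ← WithBot.coe_add, WithBot.coe_inj] at hdim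
      simp at hdim
    | coe a =>
      cases e with
      | top =>
        rw [show ((D : ℕ) : WithBot ℕ∞) = ((D : ℕ∞) : WithBot ℕ∞) from rfl,
          show ((d : ℕ) : WithBot ℕ∞) = ((d : ℕ∞) : WithBot ℕ∞) from rfl] at hdim
        rw [← WithBot.coe_add, ← WithBot.coe_add, WithBot.coe_inj] at hdim
        simp at hdim
      | coe e =>
        refine ⟨D, e, hD, ?_, fun k => ?_⟩
        · have h' : D = d + (a + e) := by exact_mod_cast hdim
          norm_cast
          omega
        · rw [pd_le_iff_of_isLocalization q.asIdeal Γ(F, U) (Localization.AtPrime q.asIdeal) (F.presheaf.stalk x.1)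
            ((H29Fitt.germLin F x).restrictScalars P) k, ← projectiveDimension_le_iff, hp]
          exact (WithBot.coe_le_coe.trans ENat.coe_le_coe).symm

end Groth.Agent.H06EGA10

namespace Groth.Agent.H06EGA10

theorem le_of_add_eq_natCast {a : WithBot ℕ∞} {p D n : ℕ} (h : a + (p : WithBot ℕ∞) = (D : WithBot ℕ∞)) :
    (n : WithBot ℕ∞) ≤ a ↔ n + p ≤ D := by
  cases a with
  | bot => simp at h
  | coe a =>
    cases a with
    | top =>
      rw [show ((D : ℕ) : WithBot ℕ∞) = ((D : ℕ∞) : WithBot ℕ∞) from rfl,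
        show ((p : ℕ) : WithBot ℕ∞) = ((p : ℕ∞) : WithBot ℕ∞) from rfl, ← WithBot.coe_add, WithBot.coe_inj] at h
      simp at h
    | coe a =>
      have h' : a + p = D := by exact_mod_cast h
      exact (WithBot.coe_le_coe.trans ENat.coe_le_coe).trans (by omega)

theorem isOpen_rd_jacobson {X S : Scheme.{u}} [IsLocallyNoetherian S] [JacobsonSpace S]
    (hreg : ∀ s : S, IsRegularLocalRing ↑(S.presheaf.stalk s)) (hS : IsGood S)
    (g : X ⟶ S) [LocallyOfFiniteType g] (F : X.Modules) (hF : Coh.IsCoh F) (n : ℕ) :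
    IsOpen {x : X | (n : WithBot ℕ∞) ≤ rd F x} := by
  haveI := LocallyOfFiniteType.isLocallyNoetherian g
  haveI := LocallyOfFiniteType.jacobsonSpace g
  have hX : IsGood X := isGood_of_lft hS g
  have hsupp : IsClosed (CohB1.support F) := H10Coh.isClosed_support F hF.2
  have hout : ∀ x ∉ CohB1.support F, (n : WithBot ℕ∞) ≤ rd F x := fun x hx => by
    obtain ⟨d, hd⟩ := hX.exists_dim_closure x
    rw [rd_eq_top F x hx d hd]
    exact WithBot.coe_le_coe.2 le_top
  rw [isOpen_iff_forall_mem_open]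
  intro x hx
  by_cases hxs : x ∈ CohB1.support F
  swap
  · exact ⟨(CohB1.support F)ᶜ, fun z hz => hout z hz, hsupp.isOpen_compl, hxs⟩
  obtain ⟨V, hV, hxV, -⟩ := exists_isAffineOpen_mem_and_subset (X := S) (x := g x) (U := ⊤) trivial
  obtain ⟨U, hU, hxU, hUV⟩ := exists_isAffineOpen_mem_and_subset (X := X) (x := x) (U := g ⁻¹ᵁ V) hxV
  letI : Algebra Γ(S, V) Γ(X, U) := (g.appLE V U hUV).hom.toAlgebra
  haveI hft : Algebra.FiniteType Γ(S, V) Γ(X, U) :=
    HasRingHomProperty.appLE @LocallyOfFiniteType g inferInstance ⟨V, hV⟩ ⟨U, hU⟩ hUV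
  obtain ⟨m, φ, hφ⟩ := Algebra.FiniteType.iff_quotient_mvPolynomial''.1 hft
  haveI : IsRegularRing Γ(S, V) := H8Props.KoszImm.isRegularRing_of_isAffineOpen hV hreg
  let P := MvPolynomial (Fin m) Γ(S, V)
  let π : Spec (CommRingCat.of P) ⟶ S := Spec.map (CommRingCat.ofHom (algebraMap Γ(S, V) P)) ≫ hV.fromSpec
  haveI : LocallyOfFiniteType (Spec.map (CommRingCat.ofHom (algebraMap Γ(S, V) P))) := by
    rw [HasRingHomProperty.Spec_iff (P := @LocallyOfFiniteType)]
    exact RingHom.finiteType_algebraMap.mpr inferInstance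
  haveI : LocallyOfFiniteType π := inferInstance
  haveI := LocallyOfFiniteType.isLocallyNoetherian π
  haveI : JacobsonSpace ↥(Spec (CommRingCat.of P)) := LocallyOfFiniteType.jacobsonSpace π
  have hP : IsGood (Spec (CommRingCat.of P)) := isGood_of_lft hS π
  letI : Algebra P Γ(X, U) := φ.toRingHom.toAlgebra
  letI : Module P Γ(F, U) := Module.compHom Γ(F, U) (algebraMap P Γ(X, U))
  haveI : IsScalarTower P Γ(X, U) Γ(F, U) := .of_algebraMap_smul fun _ _ => rfl
  haveI : Module.Finite Γ(X, U) Γ(F, U) := by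
    haveI : F.IsQuasicoherent := hF.1
    exact H10Coh.finite_sections F hF.2 hU
  haveI : Module.Finite P Γ(X, U) := Module.Finite.of_surjective (Algebra.linearMap P Γ(X, U)) hφ
  haveI : Module.Finite P Γ(F, U) := Module.Finite.trans Γ(X, U) Γ(F, U)
  haveI : IsNoetherianRing P := inferInstance
  let ψ : ↥U → PrimeSpectrum P := fun z => PrimeSpectrum.comap (algebraMap P Γ(X, U)) (hU.primeIdealOf z)
  have hψ : Continuous ψ := (PrimeSpectrum.continuous_comap _).comp hU.isoSpec.hom.continuous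
  let q₀ : Spec (CommRingCat.of P) := ψ ⟨x, hxU⟩
  obtain ⟨C, hC, hqC⟩ : ∃ C ∈ irreducibleComponents (Spec (CommRingCat.of P) : Type u), q₀ ∈ C :=
    ⟨irreducibleComponent q₀, irreducibleComponent_mem_irreducibleComponents q₀, mem_irreducibleComponent⟩
  obtain ⟨γ, hγC⟩ := QuasiSober.sober hC.1 (isClosed_of_mem_irreducibleComponents C hC)
  have hγ : closure ({γ} : Set (Spec (CommRingCat.of P))) ∈ irreducibleComponents (Spec (CommRingCat.of P) : Type u) := by
    rw [hγC.def]; exact hC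
  haveI : NoetherianSpace ↥(Spec (CommRingCat.of P)) := inferInstanceAs (NoetherianSpace (PrimeSpectrum P))
  let O : Set (PrimeSpectrum P) :=
    (⋃ C' ∈ {C' ∈ irreducibleComponents (Spec (CommRingCat.of P) : Type u) | C' ≠ C}, C')ᶜ
  have hO : IsOpen O := ((NoetherianSpace.finite_irreducibleComponents.subset fun _ h => h.1).isClosed_biUnion
    fun C' hC' => isClosed_of_mem_irreducibleComponents C' hC'.1).isOpen_compl
  have hqO : q₀ ∈ O := by
    intro h
    simp only [Set.mem_iUnion] at h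
    obtain ⟨C', ⟨hC', hne⟩, hq'⟩ := h
    haveI : IsDomain ((Spec (CommRingCat.of P)).presheaf.stalk q₀) :=
      haveI := H4Depth.isDomain_of_isRegularLocalRing (Localization.AtPrime (ψ ⟨x, hxU⟩).asIdeal)
      (Spec.stalkIso (CommRingCat.of P) q₀).commRingCatIsoToRingEquiv.toMulEquiv.isDomain
        (Localization.AtPrime (ψ ⟨x, hxU⟩).asIdeal)
    obtain ⟨γ', hγ'⟩ := QuasiSober.sober hC'.1 (isClosed_of_mem_irreducibleComponents C' hC')
    have h1 : γ ∈ C' := mem_component_of_specializes q₀ hC' hq' (hγC.specializes hqC)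
    have h2 : C ⊆ C' := by
      rw [← hγC.def]
      exact closure_minimal (Set.singleton_subset_iff.2 h1) (isClosed_of_mem_irreducibleComponents C' hC')
    exact hne (le_antisymm (hC.2 hC'.1 h2) h2)
  have hOC : ∀ q ∈ O, γ ⤳ (show Spec (CommRingCat.of P) from q) := by
    intro q hq
    refine hγC.specializes ?_
    by_contra hqn
    apply hq
    simp only [Set.mem_iUnion]
    exact ⟨irreducibleComponent q, ⟨irreducibleComponent_mem_irreducibleComponents q,
      fun e => hqn (e ▸ mem_irreducibleComponent)⟩, mem_irreducibleComponent⟩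
  obtain ⟨D, p₀, hD, hrd, hpd⟩ := rd_add_pd hX hU hP hφ F hF ⟨x, hxU⟩ hxs γ hγ (hγC.specializes hqC)
  have hn : n + p₀ ≤ D := (le_of_add_eq_natCast hrd).1 hx
  let W : Set (PrimeSpectrum P) := O ∩ {q | HasProjectiveDimensionLE (ModuleCat.of (Localization.AtPrime q.asIdeal)
    (Localization.AtPrime q.asIdeal ⊗[P] Γ(F, U))) (D - n)}
  have hW : IsOpen W := hO.inter (H05EGA4.PdBaseChange.isOpen_pd_le (D - n) Γ(F, U))
  refine ⟨Subtype.val '' (ψ ⁻¹' W), ?_, U.2.isOpenMap_subtype_val _ (hW.preimage hψ),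
    ⟨x, hxU⟩, ⟨hqO, (hpd _).1 (by omega)⟩, rfl⟩
  rintro _ ⟨z, ⟨hz1, hz2⟩, rfl⟩
  show (n : WithBot ℕ∞) ≤ rd F z.1
  by_cases hzs : z.1 ∈ CohB1.support F
  swap
  · exact hout _ hzs
  obtain ⟨D', p, hD', hrd', hpd'⟩ := rd_add_pd hX hU hP hφ F hF z hzs γ hγ (hOC _ hz1)
  have hDD : D = D' := by
    have := hD.symm.trans hD'
    exact_mod_cast this
  have := (hpd' (D - n)).2 hz2
  exact (le_of_add_eq_natCast hrd').2 (by omega)

/-- The rectified depth is the depth at nearby closed points. -/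
theorem depth_nearby_closed {X S : Scheme.{u}} [IsLocallyNoetherian S] [JacobsonSpace S]
    (hreg : ∀ s : S, IsRegularLocalRing ↑(S.presheaf.stalk s)) (hS : IsGood S)
    (g : X ⟶ S) [LocallyOfFiniteType g] (F : X.Modules) (hF : Coh.IsCoh F) (x : X) (n : ℕ∞) :
    (∃ U : X.Opens, x ∈ U ∧ ∀ x' : ↥U, (x' : X) ∈ closure ({x} : Set X) → IsClosed ({x'} : Set ↥U) →
        LocCoh.depth ↑(X.presheaf.stalk (x' : X)) ↑(F.presheaf.stalk (x' : X)) = n) ↔
      ((n : WithBot ℕ∞) = rd F x) := by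
  haveI := LocallyOfFiniteType.isLocallyNoetherian g
  haveI := LocallyOfFiniteType.jacobsonSpace g
  have hX : IsGood X := isGood_of_lft hS g
  have hclosed : ∀ (U : X.Opens) (z : ↥U), IsClosed ({z} : Set ↥U) → rd F z.1 =
      ((LocCoh.depth ↑(X.presheaf.stalk z.1) ↑(F.presheaf.stalk z.1) : ℕ∞) : WithBot ℕ∞) := by
    intro U z hz
    have h1 : IsClosed ({z.1} : Set X) := by
      have h0 := Topology.IsOpenEmbedding.preimage_closedPoints (X := ↥U) (Y := ↥X)
        (f := fun w : ↥U => (w : X)) U.2.isOpenEmbedding_subtypeVal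
      have h2 : z ∈ (fun w : ↥U => (w : X)) ⁻¹' closedPoints X := h0 ▸ hz
      exact h2
    rw [rd, h1.closure_eq]
    haveI : Subsingleton (IrreducibleCloseds ↥({z.1} : Set X)) :=
      ⟨fun A B => IrreducibleCloseds.ext ((Subsingleton.eq_univ_of_nonempty A.2.nonempty).trans
        (Subsingleton.eq_univ_of_nonempty B.2.nonempty).symm)⟩
    haveI : Nonempty (IrreducibleCloseds ↥({z.1} : Set X)) :=
      ⟨⟨closure {⟨z.1, rfl⟩}, isIrreducible_singleton.closure, isClosed_closure⟩⟩
    rw [show topologicalKrullDim ↥({z.1} : Set X) = 0 from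
      le_antisymm Order.krullDim_nonpos_of_subsingleton Order.krullDim_nonneg, add_zero]
  have key : ∃ (U : X.Opens) (r : ℕ∞), x ∈ U ∧ rd F x = (r : WithBot ℕ∞) ∧
      ∀ z ∈ U, z ∈ closure ({x} : Set X) → rd F z = (r : WithBot ℕ∞) := by
    obtain ⟨d, hd⟩ := hX.exists_dim_closure x
    by_cases hxs : x ∈ CohB1.support F
    swap
    · refine ⟨⟨(CohB1.support F)ᶜ, (H10Coh.isClosed_support F hF.2).isOpen_compl⟩, ⊤, hxs,
        rd_eq_top F x hxs d hd, fun z hz _ => ?_⟩
      obtain ⟨e, he⟩ := hX.exists_dim_closure z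
      exact rd_eq_top F z hz e he
    haveI := H17.ZDepth.finite_stalk hF x
    haveI : Nontrivial ↑(F.presheaf.stalk x) := not_subsingleton_iff_nontrivial.1 hxs
    obtain ⟨k, hk⟩ := ENat.ne_top_iff_exists.1
      (H8Props.FlatDepth.depth_ne_top (X.presheaf.stalk x) (F.presheaf.stalk x))
    have hrd : rd F x = (((k + d : ℕ) : ℕ∞) : WithBot ℕ∞) := by
      rw [rd, ← hk, hd]; push_cast; rfl
    refine ⟨⟨_, isOpen_rd_jacobson hreg hS g F hF (k + d)⟩, ((k + d : ℕ) : ℕ∞), le_of_eq hrd.symm, hrd,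
      fun z hz hzc => ?_⟩
    refine le_antisymm ?_ hz
    by_contra hlt
    have h1 : ((k + d + 1 : ℕ) : WithBot ℕ∞) ≤ rd F z := by
      generalize rd F z = a at hlt ⊢
      cases a with
      | bot => simp at hlt
      | coe a =>
        have : ((k + d : ℕ) : ℕ∞) < a := by
          rw [not_le] at hlt
          exact WithBot.coe_lt_coe.1 hlt
        exact WithBot.coe_le_coe.2 (by rw [Nat.cast_add, Nat.cast_one]; exact Order.add_one_le_of_lt this)
    have h2 := (isOpen_rd_jacobson hreg hS g F hF (k + d + 1))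
    have h3 : (k + d + 1 : ℕ) ≤ k + d := by
      have h4 : ((k + d + 1 : ℕ) : WithBot ℕ∞) ≤ rd F x :=
        (specializes_iff_mem_closure.2 hzc).mem_open h2 h1
      rw [hrd] at h4
      exact ENat.coe_le_coe.1 (WithBot.coe_le_coe.1 h4)
    omega
  obtain ⟨U₀, r, hxU₀, hr, hU₀⟩ := key
  rw [hr, WithBot.coe_inj]
  constructor
  · rintro ⟨U, hxU, hU⟩
    obtain ⟨z, ⟨⟨hzU, hzU₀⟩, hzx⟩, hzc⟩ := nonempty_inter_closedPoints
      (Z := ((U : Set X) ∩ U₀) ∩ closure ({x} : Set X)) ⟨x, ⟨hxU, hxU₀⟩, subset_closure rfl⟩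
      ((U.2.inter U₀.2).isLocallyClosed.inter isClosed_closure.isLocallyClosed)
    have hzU' : IsClosed ({(⟨z, hzU⟩ : ↥U)} : Set ↥U) := by
      have : ({(⟨z, hzU⟩ : ↥U)} : Set ↥U) = Subtype.val ⁻¹' {z} := Set.ext fun w => Subtype.ext_iff
      rw [this]; exact hzc.preimage continuous_subtype_val
    have h5 := hclosed U ⟨z, hzU⟩ hzU'
    rw [hU₀ z hzU₀ hzx, hU ⟨z, hzU⟩ hzx hzU', WithBot.coe_inj] at h5
    exact h5.symm
  · rintro rfl
    refine ⟨U₀, hxU₀, fun z hzx hzc => ?_⟩
    have h5 := hclosed U₀ z hzc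
    rw [hU₀ z.1 z.2 hzx, WithBot.coe_inj] at h5
    exact h5.symm

end Groth.Agent.H06EGA10
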