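import Groth.Agent.S0603
import Groth.Agent.H4Depth.Regular
import Groth.Agent.H05EGA4.Regular

/-! Regular local rings are universally catenary. -/

set_option autoImplicit false
universe u

namespace Groth.Agent.H06EGA10

theorem isUniversallyCatenary_of_regular (R : Type u) [CommRing R] [IsRegularLocalRing R] :
    CAlg.IsUniversallyCatenary R := by
  haveI : LocCoh.IsCohenMacaulayRing R := ⟨fun p _ => by
    haveI := H05EGA4.isRegularLocalRing_localization R p
    exact H4Depth.isCohenMacaulayLocalRing_of_regular _⟩
  exact S0603.result R

end Groth.Agent.H06EGA10
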